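import Mathlib
import Groth.Agent.Lib.Helper5.Dom.A

set_option autoImplicit false
universe u

namespace H5Dom

open AlgebraicGeometry CategoryTheory TopologicalSpace

variable {X Y : Scheme.{u}} [AlgebraicGeometry.IsIntegral X] [AlgebraicGeometry.IsIntegral Y]
  (f : X ⟶ Y)

/-- If `f` is not dominant, every nonempty affine open of `Y` carries a nonzero section whose
nonvanishing locus misses the image. -/
theorem exists_section_of_not_dominant (hnd : ¬ IsDominant f) (V : Y.Opens) (hV : IsAffineOpen V)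
    (hne : (V : Set ↑Y).Nonempty) :
    ∃ s : Γ(Y, V), s ≠ 0 ∧ f ⁻¹ᵁ (Y.basicOpen s) = ⊥ := by
  have hnd' : ¬ DenseRange f.base := fun h => hnd ⟨h⟩
  have hW : (closure (Set.range f.base))ᶜ.Nonempty := by
    rw [Set.nonempty_compl]
    intro h
    exact hnd' (dense_iff_closure_eq.mpr h)
  have hWo : IsOpen (closure (Set.range f.base))ᶜ := isClosed_closure.isOpen_compl
  obtain ⟨y, hyW, hyV⟩ := nonempty_preirreducible_inter hWo V.isOpen hW hne
  let W : Y.Opens := ⟨(closure (Set.range f.base))ᶜ, hWo⟩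
  obtain ⟨s, hsW, hys⟩ := hV.exists_basicOpen_le (V := W) ⟨y, hyW⟩ hyV
  refine ⟨s, ?_, ?_⟩
  · rintro rfl
    rw [Scheme.basicOpen_zero] at hys
    exact hys
  · rw [eq_bot_iff]
    intro x hx
    have h1 : f.base x ∈ W := hsW hx
    exact absurd (subset_closure (Set.mem_range_self x)) h1

theorem dominant_of_exists_appLE_injective
    (h : ∃ (U : X.Opens) (V : Y.Opens) (hUV : U ≤ f ⁻¹ᵁ V), IsAffineOpen U ∧ IsAffineOpen V ∧
      (U : Set ↑X).Nonempty ∧ Function.Injective (f.appLE V U hUV)) : IsDominant f := by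
  by_contra hnd
  obtain ⟨U, V, hUV, -, hV, ⟨x, hxU⟩, hinj⟩ := h
  have hVne : (V : Set ↑Y).Nonempty := ⟨f.base x, hUV hxU⟩
  obtain ⟨s, hs0, hs⟩ := exists_section_of_not_dominant f hnd V hV hVne
  have h1 : X.basicOpen (f.appLE V U hUV s) = ⊥ := by
    rw [Scheme.basicOpen_appLE, hs, inf_bot_eq]
  rw [basicOpen_eq_bot_iff] at h1
  exact hs0 (hinj (by rw [h1, map_zero]))

theorem dominant_of_exists_stalkMap_injective
    (h : ∃ x : ↑X, Function.Injective (f.stalkMap x)) : IsDominant f := by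
  by_contra hnd
  obtain ⟨x, hinj⟩ := h
  obtain ⟨_, ⟨V, hV, rfl⟩, hxV, -⟩ :=
    Y.isBasis_affineOpens.exists_subset_of_mem_open (Set.mem_univ (f.base x)) isOpen_univ
  have hVne : (V : Set ↑Y).Nonempty := ⟨f.base x, hxV⟩
  obtain ⟨s, hs0, hs⟩ := exists_section_of_not_dominant f hnd V hV hVne
  have h1 : X.basicOpen (f.app V s) = ⊥ := by
    rw [← Scheme.preimage_basicOpen, hs]
  rw [basicOpen_eq_bot_iff] at h1
  have h2 : f.stalkMap x (Y.presheaf.germ V (f.base x) hxV s) = 0 := by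
    rw [Scheme.Hom.germ_stalkMap_apply, h1, map_zero]
  have h3 : Y.presheaf.germ V (f.base x) hxV s = 0 := hinj (by rw [h2, map_zero])
  exact hs0 (germ_injective_of_isIntegral Y (f.base x) hxV (by rw [h3, map_zero]))

theorem appLE_injective_of_stalkMap_injective (h : ∀ x : ↑X, Function.Injective (f.stalkMap x))
    (U : X.Opens) (V : Y.Opens) (hUV : U ≤ f ⁻¹ᵁ V) (hne : (U : Set ↑X).Nonempty) :
    Function.Injective (f.appLE V U hUV) := by
  obtain ⟨x, hxU⟩ := hne
  rw [injective_iff_map_eq_zero]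
  intro s hs
  have hxV : f.base x ∈ V := hUV hxU
  have h2 : f.stalkMap x (Y.presheaf.germ V (f.base x) hxV s) = 0 := by
    rw [Scheme.Hom.germ_stalkMap_apply]
    have h3 : X.presheaf.germ (f ⁻¹ᵁ V) x hxV (f.app V s)
        = X.presheaf.germ U x hxU (f.appLE V U hUV s) := by
      rw [Scheme.Hom.appLE, CommRingCat.comp_apply, TopCat.Presheaf.germ_res_apply]
    rw [h3, hs, map_zero]
  have h3 : Y.presheaf.germ V (f.base x) hxV s = 0 := h x (by rw [h2, map_zero])
  exact germ_injective_of_isIntegral Y (f.base x) hxV (by rw [h3, map_zero])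

theorem main9346 :
    [IsDominant f,
      f.base (genericPoint ↑X) = genericPoint ↑Y,
      ∃ (U : X.Opens) (V : Y.Opens) (hUV : U ≤ f ⁻¹ᵁ V), IsAffineOpen U ∧ IsAffineOpen V ∧ (U : Set ↑X).Nonempty ∧
        Function.Injective (f.appLE V U hUV),
      ∀ (U : X.Opens) (V : Y.Opens) (hUV : U ≤ f ⁻¹ᵁ V), IsAffineOpen U → IsAffineOpen V → (U : Set ↑X).Nonempty →
        Function.Injective (f.appLE V U hUV),
      ∃ x : ↑X, Function.Injective (f.stalkMap x),
      ∀ x : ↑X, Function.Injective (f.stalkMap x)].TFAE := by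
  tfae_have 1 ↔ 2 := dominant_iff_generic f
  tfae_have 2 → 6 := fun h x => stalkMap_injective_of_generic f h x
  tfae_have 6 → 5 := fun h => ⟨(inferInstance : Nonempty ↑X).some, h _⟩
  tfae_have 5 → 1 := dominant_of_exists_stalkMap_injective f
  tfae_have 6 → 4 := fun h U V hUV _ _ hne => appLE_injective_of_stalkMap_injective f h U V hUV hne
  tfae_have 4 → 3 := by
    intro h
    obtain ⟨x⟩ := (inferInstance : Nonempty ↑X)
    obtain ⟨_, ⟨V, hV, rfl⟩, hxV, -⟩ :=
      Y.isBasis_affineOpens.exists_subset_of_mem_open (Set.mem_univ (f.base x)) isOpen_univ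
    obtain ⟨_, ⟨U, hU, rfl⟩, hxU, hUV⟩ :=
      X.isBasis_affineOpens.exists_subset_of_mem_open (show x ∈ (f ⁻¹ᵁ V : Set ↑X) from hxV)
        (f ⁻¹ᵁ V).isOpen
    exact ⟨U, V, hUV, hU, hV, ⟨x, hxU⟩, h U V hUV hU hV ⟨x, hxU⟩⟩
  tfae_have 3 → 1 := dominant_of_exists_appLE_injective f
  tfae_finish

end H5Dom
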